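import Cfsg.Agent.LX.SGood
import Cfsg.Agent.LS.LemC
import Cfsg.Agent.LS.Norm
import Cfsg.Agent.LS.NR2
import Cfsg.Agent.LS.End
import Cfsg.Agent.S1347
import Cfsg.Agent.DHR.Loc

set_option autoImplicit false

namespace Cfsg.Agent.LS

open Subgroup H29
open scoped commutatorElement

variable {G : Type*} [Group G] [Finite G]

/-- `C(L)` contains a four-group -/
def Rk (ι : P →* G) : Prop :=
  ∃ a ∈ Kc ι, ∃ b ∈ Kc ι, a * a = 1 ∧ b * b = 1 ∧ a ≠ 1 ∧ b ≠ 1 ∧ a ≠ b ∧ Commute a b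

omit [Finite G] in
theorem Rk.fr {ι ι' : P →* G} (r : Rk ι) (f : Fr ι ι') : Rk ι' := by
  obtain ⟨g, β, rfl⟩ := f
  obtain ⟨a, ha, b, hb, a2, b2, a1, b1, ab, c⟩ := r
  have m : ∀ x ∈ Kc ι, MulAut.conj g x ∈ Kc (cj g (tw ι β)) := fun x hx => mem_Kc_cj.2 (by
    rw [Kc_tw]; simpa [mul_assoc] using hx)
  exact ⟨_, m a ha, _, m b hb, by rw [← map_mul, a2, map_one], by rw [← map_mul, b2, map_one],
    fun e => a1 ((MulAut.conj g).map_eq_one_iff.1 e), fun e => b1 ((MulAut.conj g).map_eq_one_iff.1 e),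
    fun e => ab ((MulAut.conj g).injective e), c.map _⟩

theorem rk_of {ι : P →* G} (hR : ¬ Cfsg.PRankLE 2 1 ↥(Kc ι)) : Rk ι := by
  simp only [PRankLE, not_forall, not_le] at hR
  obtain ⟨E, hE, sq, c⟩ := hR
  have := Fintype.ofFinite E
  rw [Nat.card_eq_fintype_card] at c
  obtain ⟨a, b, d, ab, ad, bd⟩ := Fintype.two_lt_card_iff.1 (show 2 < Fintype.card E by omega)
  let f : E →* G := (Kc ι).subtype.comp E.subtype
  have i : Function.Injective f := Subtype.val_injective.comp Subtype.val_injective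
  have m : ∀ x, f x ∈ Kc ι := fun x => x.1.2
  have s : ∀ x, f x * f x = 1 := fun x => by
    rw [← map_mul, show x * x = 1 from Subtype.ext ((pow_two _).symm.trans (sq _ x.2)), map_one]
  refine ⟨_, m (a⁻¹ * b), _, m (a⁻¹ * d), s _, s _, fun e => ab (inv_mul_eq_one.1 ((map_eq_one_iff f i).1 e)),
    fun e => ad (inv_mul_eq_one.1 ((map_eq_one_iff f i).1 e)), fun e => bd (mul_left_cancel (i e)), ?_⟩
  exact Commute.map (hE.is_comm.comm _ _) f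

theorem amb_layer (hO : Cfsg.oddCore G = ⊥) {ι : P →* G}
    (hA : Cfsg.IsStandardSubgroup ι.range) (hn : ¬ ι.range.Normal) (r : Rk ι) : Amb ι (Cfsg.layer G) := by
  obtain ⟨a, ha, b, hb, a2, -, a1, b1, ab, -⟩ := r
  have : Fact (Nat.Prime 2) := ⟨Nat.prime_two⟩
  rcases S1347.result _ hA hO a (orderOf_eq_prime (by rw [pow_two, a2]) a1) ha with
    h | ⟨X, -, -, -, -, -, -, h⟩ | ⟨h1, h2, -⟩
  · exact absurd h hn
  · obtain ⟨k, rfl⟩ := h.le hb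
    have k2 : a ^ (2 : ℤ) = 1 := by rw [zpow_two, a2]
    rcases Int.even_or_odd' k with ⟨l, rfl | rfl⟩
    · exact absurd (by simp [zpow_mul, k2]) b1
    · exact absurd (by simp [zpow_add, zpow_mul, k2]) ab
  · exact ⟨inferInstance, h2, h1, DHR.cent_layer hO hA hn h1 h2⟩

omit [Finite G] in
theorem amb_top [IsSimpleGroup G] {ι : P →* G} (h : Hy ι) : Amb ι ⊤ := by
  refine ⟨inferInstance, topEquiv.isSimpleGroup, le_top, ?_⟩
  refine (IsSimpleGroup.eq_bot_or_eq_top_of_normal _ inferInstance).resolve_right fun e => h.std 1 fun p p' => ?_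
  exact ((e.ge (mem_top (ι p))) _ (mem_top _)).symm

omit [Finite G] in
theorem Amb.fr {ι ι' : P →* G} {J : Subgroup G} (a : Amb ι J) (f : Fr ι ι') : Amb ι' J := by
  obtain ⟨g, β, rfl⟩ := f
  refine ⟨a.nrm, a.simple, ?_, a.cen⟩
  rintro _ ⟨p, rfl⟩
  exact a.nrm.conj_mem _ (a.le ⟨β p, rfl⟩) g

omit [Finite G] in
theorem Amb.closure {ι : P →* G} {J : Subgroup G} (a : Amb ι J) (h : Hy ι) :
    normalClosure (ι.range : Set G) = J := by
  have := a.nrm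
  have := a.simple
  have le : normalClosure (ι.range : Set G) ≤ J := normalClosure_le_normal a.le
  refine le_antisymm le ?_
  rcases ((inferInstance : (normalClosure (ι.range : Set G)).Normal).subgroupOf J).eq_bot_or_eq_top with b | b
  · rw [subgroupOf_eq_bot, disjoint_iff, inf_eq_left.2 le] at b
    refine (h.std 1 fun p p' => ?_).elim
    rw [mem_bot.1 (b.le (subset_normalClosure ⟨p, rfl⟩))]
    exact Commute.one_left _
  · exact subgroupOf_eq_top.1 b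

namespace Dat

variable {δ : Dat G}

theorem OK.ct (ok : δ.OK) (e : δ.e = false) {k : G} (hk : k ∈ Kc δ.ι) (c : Commute k δ.t) :
    ∃ o, δ.Od o ∧ (k = o ∨ k = o * δ.t) := by
  have l : ∀ ρ, Lam δ.e ρ → ρ = 0 ∨ ρ = 1 := fun ρ h => h.resolve_left (by simp [e])
  obtain ⟨o, ρ, ho, h, rfl⟩ := ok.cR hk fun ρ h => by
    rcases l ρ h with rfl | rfl
    · rw [ok.r_zero]; exact Commute.one_right k
    · exact c
  refine ⟨o, ho, ?_⟩
  rcases l ρ h with rfl | rfl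
  · exact .inl (by rw [ok.r_zero, mul_one])
  · exact .inr rfl

theorem OK.e_true (ok : δ.OK) (r : Rk δ.ι) : δ.e = true := by
  obtain ⟨a, ha, b, hb, a2, b2, a1, b1, ab, c⟩ := r
  by_contra e
  rw [Bool.not_eq_true] at e
  obtain ⟨m, hm, ρ, l, h⟩ := ok.syl a ha a2
  obtain rfl : ρ = 1 := (l.resolve_left (by simp [e])).resolve_left fun k =>
    a1 (conj_eq_one_iff.1 (by rw [h, k, ok.r_zero]))
  have b3 : m * b * m⁻¹ * (m * b * m⁻¹) = 1 := by rw [conj_mul, b2, mul_one, mul_inv_cancel]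
  obtain ⟨o, ho, k⟩ := ok.ct e (mul_mem (mul_mem hm hb) (inv_mem hm))
    (show Commute _ (δ.r 1) from h ▸ c.symm.map (MulAut.conj m))
  have o2 : o * o = 1 := by
    rcases k with k | k <;> rw [k] at b3
    · exact b3
    · rwa [(show Commute δ.t o from (ho.2.1 1 (lam_one _)).symm).mul_mul_mul_comm, ok.t_sq, mul_one] at b3
  obtain rfl : o = 1 := by
    obtain ⟨n, hn⟩ := ho.2.2
    have := pow_orderOf_eq_one o
    rwa [hn, pow_succ, pow_mul, pow_two, o2, one_pow, one_mul] at this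
  rcases k with k | k
  · exact b1 (conj_eq_one_iff.1 k)
  · exact ab (mul_left_cancel (mul_right_cancel (h.trans ((one_mul _).symm.trans k.symm))))

theorem Kk.k_ne {k₁ k₂ : F} (k : δ.Kk k₁ k₂) (e : δ.e = true) : k₁ ≠ 0 := by
  have ok := k.ok
  rcases norm_word k₁ k₂ with ⟨rfl, rfl⟩ | h | ⟨μ, μ', x, ρ, h0, h | h⟩
  · exact absurd (k.e_false.symm.trans e) (by decide)
  · exact left_ne_zero_of_mul_eq_one h
  · obtain ⟨x1, h1⟩ := ok.exists_Qx μ' 0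
    obtain ⟨x2, h2⟩ := ok.sw.exists_Qx μ 0
    have := ((k.a2 _ _ _ h2).mul (k.a1 _ _ _ h1)) _ _ (ok.InD_U 0 1 0)
    rw [Function.comp, h] at this
    exact absurd (ok.DD_D this (mul_zero _) h0) (ok.nDD_L _ _)
  · obtain ⟨x1, h1⟩ := ok.exists_Qx μ 0
    obtain ⟨x2, h2⟩ := ok.sw.exists_Qx μ' 0
    have := ((k.a1 _ _ _ h1).mul (k.a2 _ _ _ h2)) _ _ (ok.InD_U 1 0 0)
    rw [Function.comp, h] at this
    exact absurd (ok.DD_D this (zero_mul _) h0) (ok.nDD_L _ _)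

theorem OK.Wy_J (ok : δ.OK) {J : Subgroup G} (a : Amb δ.ι J) {y : G} {σ : F} (h : δ.Wy y σ) : y ∈ J := by
  have jl : ∀ p, δ.ι p ∈ J := fun p => a.le ⟨p, rfl⟩
  obtain ⟨v, hv⟩ := ok.exists_Wy (ω * ω * σ)
  have h1 := ok.Wy_mul (ok.Wy_h hv) (ok.Wy_inv hv)
  rw [(by decide : ∀ σ : F, ω * ω * (ω * ω * σ) + ω * ω * σ = σ)] at h1
  have h2 := ok.Wy_mul (ok.Wy_inv h1) h
  rw [SA.two] at h2
  obtain ⟨c, e⟩ := ok.Wy_zero.1 h2
  rw [inv_mul_eq_iff_eq_mul.1 e]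
  refine mul_mem ?_ (jl _)
  rw [show δ.h * v * δ.h⁻¹ * v⁻¹ = δ.h * (v * δ.h⁻¹ * v⁻¹) by group]
  exact mul_mem (jl _) (a.nrm.conj_mem _ (inv_mem (jl _)) v)

theorem OK.r_J (ok : δ.OK) (e : δ.e = true) {J : Subgroup G} (a : Amb δ.ι J) (ρ : F) : δ.r ρ ∈ J := by
  have jl : ∀ p, δ.ι p ∈ J := fun p => a.le ⟨p, rfl⟩
  obtain ⟨k₁, k₂, k, -⟩ := ok.exists_Kk
  have n := k.k_ne e
  obtain ⟨x, hx⟩ := ok.exists_Qx 1 0
  obtain ⟨-, c, y, hy, e1⟩ := k.a1 _ _ _ hx _ _ (ok.InD_U 0 (k₁⁻¹ * ρ) 0)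
  have e2 : (f1 k₁ 1 (0, k₁⁻¹ * ρ, 0, 0)).2.2.1 = ρ := by simp [f1, n]
  rw [e2] at e1
  have m : x * δ.U 0 (k₁⁻¹ * ρ) 0 * x⁻¹ ∈ J := a.nrm.conj_mem _ (jl _) x
  rw [e1] at m
  exact (mul_mem_cancel_left (jl _)).1 ((mul_mem_cancel_right (ok.Wy_J a hy)).1 m)

end Dat

theorem exists_ok {ι : P →* G} (h : Hy ι) {J : Subgroup G} (a : Amb ι J) (r : Rk ι) :
    ∃ δ : Dat G, δ.OK ∧ δ.e = true ∧ Fr ι δ.ι := by
  obtain ⟨ι', t, f, ht, t2, t1, hs⟩ := exists_good2 h a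
  obtain ⟨δ, ok, rfl⟩ := ok_of_good2 (h.fr f) ht t2 t1 hs
  exact ⟨δ, ok, ok.e_true (r.fr f), f⟩

theorem restrict {ι : P →* G} (h : Hy ι) {J : Subgroup G} (a : Amb ι J) (r : Rk ι) :
    ∃ j : P →* J, Hy j ∧ Rk j := by
  obtain ⟨δ, ok, e, f⟩ := exists_ok h a r
  have a' := a.fr f
  let j : P →* J := δ.ι.codRestrict J fun p => a'.le ⟨p, rfl⟩
  have kk : ∀ x : J, x ∈ Kc j ↔ (x : G) ∈ Kc δ.ι := fun x => by
    simp only [mem_Kc]
    exact forall_congr' fun p => ⟨fun c => c.map J.subtype, fun c => Subtype.ext c⟩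
  have l : ∀ ρ, Lam δ.e ρ := fun ρ => Or.inl e
  have rk : Rk j := ⟨⟨_, ok.r_J e a' 1⟩, (kk _).2 (ok.rK 1), ⟨_, ok.r_J e a' ω⟩, (kk _).2 (ok.rK ω),
    Subtype.ext (ok.r_sq (l _)), Subtype.ext (ok.r_sq (l _)),
    fun e => ok.rne 1 (l _) one_ne_zero (congrArg Subtype.val e),
    fun e => ok.rne ω (l _) (by decide) (congrArg Subtype.val e),
    fun e => ok.rne (1 + ω) (l _) (by decide) (by
      rw [ok.radd _ _ (l _) (l _), show δ.r 1 = δ.r ω from congrArg Subtype.val e, ok.r_sq (l _)]),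
    Subtype.ext (ok.r_comm (l _) (l _))⟩
  refine ⟨j, ⟨fun p q e => ok.hy.inj (congrArg Subtype.val e), fun g k hk k2 k1 hg => ?_,
    fun g c => ok.hy.std g fun p p' => (c p p').map J.subtype, ?_⟩, rk⟩
  · obtain ⟨β, hβ⟩ := ok.hy.aut (ok.hy.ti g k ((kk _).1 hk) (congrArg Subtype.val k2)
      (fun e => k1 (Subtype.ext e)) ((kk _).1 hg))
    exact mem_Nn_of_aut β fun p => Subtype.ext (hβ p)
  · obtain ⟨x, hx, -, -, x2, -, x1, -⟩ := rk
    exact ⟨x, hx, x2, x1⟩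

theorem exists_fn [IsSimpleGroup G] {ι : P →* G} (h : Hy ι) (r : Rk ι) : ∃ (δ : Dat G) (g τ : G), δ.Fn g τ := by
  obtain ⟨δ, ok, e, -⟩ := exists_ok h (amb_top h) r
  obtain ⟨k₁, k₂, k, -⟩ := ok.exists_Kk
  obtain ⟨δ', c⟩ := k.norm e
  obtain ⟨g, hg⟩ := c.exists_H0
  obtain ⟨τ, hτ⟩ := hg.exists_tau
  exact ⟨δ', g, τ, hτ.fn⟩

theorem exists_frame {A : Subgroup G} (e : A ≃* P) : ∃ ι : P →* G, Function.Injective ι ∧ ι.range = A :=
  ⟨A.subtype.comp e.symm.toMonoidHom, A.subtype_injective.comp e.symm.injective, by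
    rw [MonoidHom.range_comp, MonoidHom.range_eq_top.2 e.symm.surjective, ← MonoidHom.range_eq_map, range_subtype]⟩

theorem main2 (hO : Cfsg.oddCore G = ⊥) {A : Subgroup G} (hA : Cfsg.IsStandardSubgroup A)
    (hR : ¬ Cfsg.PRankLE 2 1 ↥(centralizer (A : Set G))) (e : A ≃* P) (hn : ¬ A.Normal) :
    Cfsg.Spor.IsoSuz (normalClosure (A : Set G)) := by
  obtain ⟨ι, inj, r⟩ := exists_frame e
  have h := LC.hy A hA inj r
  subst r
  have a := amb_layer hO hA hn (rk_of hR)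
  obtain ⟨j, hj, rj⟩ := restrict h a (rk_of hR)
  have := a.simple
  obtain ⟨δ, g, τ, f⟩ := exists_fn hj rj
  rw [a.closure h]
  exact f.suz

end Cfsg.Agent.LS
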